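import Groth.Agent.RelSpecLib.SymData
import Groth.Agent.SpecQCAlg.Basic
import Groth.Agent.ParaFLib.Gen

/-!
# The total space of an invertible module, with its fibre coordinates
-/

set_option autoImplicit false
set_option backward.isDefEq.respectTransparency false
set_option backward.isDefEq.respectTransparency.types false
set_option linter.style.haveILetI false

universe u

open CategoryTheory AlgebraicGeometry TopologicalSpace Opposite Groth.Agent.ParaFLib

noncomputable section

namespace Groth.Agent.LinBunLib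

/-- Base change keeps a polynomial coordinate a polynomial coordinate. -/
theorem bijective_eval₂_of_isPushout {R W B C : CommRingCat.{u}} {a : R ⟶ W} {b : R ⟶ B} {g : W ⟶ C} {h : B ⟶ C}
    (H : IsPushout a b g h) (y : B) (hy : Function.Bijective (Polynomial.eval₂RingHom b.hom y)) :
    Function.Bijective (Polynomial.eval₂RingHom g.hom (h y)) := by
  let e := RingEquiv.ofBijective _ hy
  let D := CommRingCat.of (Polynomial W)
  let u : B ⟶ D := CommRingCat.ofHom ((Polynomial.mapRingHom a.hom).comp e.symm.toRingHom)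
  have hu : ∀ P : Polynomial R, u (Polynomial.eval₂RingHom b.hom y P) = P.map a.hom := fun P => by
    show (e.symm (e P)).map a.hom = _
    rw [RingEquiv.symm_apply_apply]
  let ev : D ⟶ C := CommRingCat.ofHom (Polynomial.eval₂RingHom g.hom (h y))
  have hC : a ≫ CommRingCat.ofHom (Polynomial.C (R := W)) = b ≫ u := by
    refine CommRingCat.hom_ext (RingHom.ext fun r => ?_)
    show Polynomial.C (a r) = u (b r)
    rw [show b r = Polynomial.eval₂RingHom b.hom y (Polynomial.C r) by simp, hu, Polynomial.map_C]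
  let inv : C ⟶ D := H.desc (CommRingCat.ofHom (Polynomial.C (R := W))) u hC
  have huy : u y = Polynomial.X := by
    rw [show y = Polynomial.eval₂RingHom b.hom y Polynomial.X by simp, hu, Polynomial.map_X]
  have h1 : ev ≫ inv = 𝟙 D := by
    refine CommRingCat.hom_ext (Polynomial.ringHom_ext (fun w => ?_) ?_)
    · show inv (Polynomial.eval₂RingHom g.hom (h y) (Polynomial.C w)) = Polynomial.C w
      rw [Polynomial.coe_eval₂RingHom, Polynomial.eval₂_C]
      exact congr($(H.inl_desc (CommRingCat.ofHom (Polynomial.C (R := W))) u hC) w)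
    · show inv (Polynomial.eval₂RingHom g.hom (h y) Polynomial.X) = Polynomial.X
      rw [Polynomial.coe_eval₂RingHom, Polynomial.eval₂_X]
      exact (congr($(H.inr_desc (CommRingCat.ofHom (Polynomial.C (R := W))) u hC) y)).trans huy
  have h2 : inv ≫ ev = 𝟙 C := by
    refine H.hom_ext ?_ ?_
    · rw [H.inl_desc_assoc, Category.comp_id]
      exact CommRingCat.hom_ext (RingHom.ext fun w => by simp [ev, D])
    · rw [H.inr_desc_assoc, Category.comp_id]
      refine CommRingCat.hom_ext (RingHom.ext fun c => ?_)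
      obtain ⟨P, rfl⟩ := hy.2 c
      show Polynomial.eval₂RingHom g.hom (h y) (u (Polynomial.eval₂RingHom b.hom y P)) =
        h (Polynomial.eval₂RingHom b.hom y P)
      rw [hu, Polynomial.coe_eval₂RingHom, Polynomial.eval₂_map, Polynomial.coe_eval₂RingHom,
        Polynomial.hom_eval₂]
      exact congrArg (fun t => Polynomial.eval₂ t (h y) P) (congrArg CommRingCat.Hom.hom H.w)
  exact Function.bijective_iff_has_inverse.2 ⟨inv, fun P => congr($h1 P), fun c => congr($h2 c)⟩

variable {Y : Scheme.{u}} (P : Y.Modules) [Coh.IsQCoh P]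

/-- The total space. -/
abbrev tot : Scheme.{u} := (RelSpecLib.symAlg P).spec

/-- Its projection. -/
abbrev proj : tot P ⟶ Y := (RelSpecLib.symAlg P).π

instance : IsIso (RelSpecLib.symAlg P).gammaMap := SpecQCAlg.isIso_gammaMap _

theorem bijective_gammaMap_app (U : Y.Opens) :
    Function.Bijective ((RelSpecLib.symAlg P).gammaMap.app (op U)) :=
  haveI : IsIso ((RelSpecLib.symAlg P).gammaMap.app (op U)) :=
    ((asIso (RelSpecLib.symAlg P).gammaMap).app (op U)).isIso_hom
  ConcreteCategory.bijective_of_isIso (C := CommRingCat) _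

/-- The function on the total space given by a section. -/
def coordAt {U : Y.Opens} (l : Γ(P, U)) : Γ(tot P, proj P ⁻¹ᵁ U) :=
  (inv (RelSpecLib.symAlg P).gammaMap).app (op U)
    (RelSpecLib.jsec (RelSpecLib.symAlg P) (RelSpecLib.symJ P) l)

theorem gammaMap_coordAt {U : Y.Opens} (l : Γ(P, U)) :
    (RelSpecLib.symAlg P).gammaMap.app (op U) (coordAt P l) =
      RelSpecLib.jsec (RelSpecLib.symAlg P) (RelSpecLib.symJ P) l :=
  congr($(NatTrans.congr_app (IsIso.inv_hom_id (RelSpecLib.symAlg P).gammaMap) (op U))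
    (RelSpecLib.jsec (RelSpecLib.symAlg P) (RelSpecLib.symJ P) l))

theorem coordAt_res {U V : Y.Opens} (h : V ≤ U) (l : Γ(P, U)) :
    coordAt P (P.presheaf.map (homOfLE h).op l) =
      (tot P).presheaf.map (homOfLE ((proj P).preimage_mono h)).op (coordAt P l) := by
  rw [coordAt, ← RelSpecLib.res_jsec]
  exact congr($((inv (RelSpecLib.symAlg P).gammaMap).naturality (homOfLE h).op)
    (RelSpecLib.jsec (RelSpecLib.symAlg P) (RelSpecLib.symJ P) l))

theorem coordAt_smul {U : Y.Opens} (r : Γ(Y, U)) (l : Γ(P, U)) :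
    coordAt P (r • l) = (proj P).app U r * coordAt P l := by
  have hinj : Function.Injective ((RelSpecLib.symAlg P).gammaMap.app (op U)) := (bijective_gammaMap_app P U).1
  refine hinj ?_
  rw [map_mul, gammaMap_coordAt, gammaMap_coordAt, RelSpecLib.jsec_smul]
  exact congrArg (· * RelSpecLib.jsec _ _ l)
    (congr($(NatTrans.congr_app (RelSpecLib.symAlg P).π_c_gammaMap (op U)) r)).symm

/-- Over an affine open where `l` generates, it is a fibre coordinate. -/
theorem bijective_eval₂_coordAt {U : Y.Opens} (hU : IsAffineOpen U) {l : Γ(P, U)} (hl : Gen U l) :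
    Function.Bijective (Polynomial.eval₂RingHom ((proj P).app U).hom (coordAt P l)) := by
  let A := RelSpecLib.symAlg P
  let j := RelSpecLib.symJ P
  have hb : Function.Bijective fun r : Γ(Y, U) => r • l := by
    have := hl U le_rfl
    simp only [show P.presheaf.map (homOfLE (le_refl U)).op l = l from ConcreteCategory.congr_hom (P.presheaf.map_id _) l] at this
    exact this
  let e : Γ(Y, U) ≃ₗ[Γ(Y, U)] Γ(P, U) := LinearEquiv.ofBijective (LinearMap.toSpanSingleton _ _ l) hb
  let ψ : Polynomial Γ(Y, U) →ₐ[Γ(Y, U)] SymmetricAlgebra Γ(Y, U) Γ(P, U) :=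
    Polynomial.aeval (SymmetricAlgebra.ι _ _ l)
  let χ : SymmetricAlgebra Γ(Y, U) Γ(P, U) →ₐ[Γ(Y, U)] Polynomial Γ(Y, U) :=
    SymmetricAlgebra.lift ((LinearMap.toSpanSingleton Γ(Y, U) (Polynomial Γ(Y, U)) Polynomial.X) ∘ₗ e.symm.toLinearMap)
  have hχl : χ (SymmetricAlgebra.ι _ _ l) = Polynomial.X := by
    refine (SymmetricAlgebra.lift_ι_apply _ l).trans ?_
    show (e.symm l) • (Polynomial.X : Polynomial Γ(Y, U)) = _
    rw [show e.symm l = 1 from e.injective (by simp [e]), one_smul]
  have h1 : χ.comp ψ = AlgHom.id _ _ := Polynomial.algHom_ext (by simp [ψ, hχl])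
  have h2 : ψ.comp χ = AlgHom.id _ _ := SymmetricAlgebra.algHom_ext (LinearMap.ext fun m => by
    obtain ⟨r, rfl⟩ := e.surjective m
    show ψ (χ (SymmetricAlgebra.ι _ _ (r • l))) = SymmetricAlgebra.ι _ _ (r • l)
    rw [map_smul, map_smul, hχl, map_smul, Polynomial.aeval_X])
  have hψ : Function.Bijective ψ :=
    Function.bijective_iff_has_inverse.2 ⟨χ, fun x => AlgHom.congr_fun h1 x, fun x => AlgHom.congr_fun h2 x⟩
  have h3 := (RelSpecLib.bijective_symEval P (RelSpecLib.isSymAlg_symAlg P) hU).comp hψ
  have hg : Function.Bijective (A.gammaMap.app (op U)) := bijective_gammaMap_app P U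
  refine (Function.Bijective.of_comp_iff' hg _).1 ?_
  convert h3 using 1
  funext Q
  show (A.gammaMap.app (op U)).hom (Polynomial.eval₂RingHom _ _ Q) = RelSpecLib.symEval A j U (ψ Q)
  refine RingHom.congr_fun (Polynomial.ringHom_ext (fun r => ?_) ?_ :
    (A.gammaMap.app (op U)).hom.comp (Polynomial.eval₂RingHom ((proj P).app U).hom (coordAt P l)) =
      (RelSpecLib.symEval A j U).comp ψ.toRingHom) Q
  · simp only [RingHom.comp_apply, AlgHom.toRingHom_eq_coe, RingHom.coe_coe]
    rw [Polynomial.coe_eval₂RingHom, Polynomial.eval₂_C, show ψ (Polynomial.C r) = algebraMap _ _ r from Polynomial.aeval_C _ r,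
      RelSpecLib.symEval_algebraMap]
    exact congr($(NatTrans.congr_app A.π_c_gammaMap (op U)) r)
  · simp only [RingHom.comp_apply, AlgHom.toRingHom_eq_coe, RingHom.coe_coe]
    rw [Polynomial.coe_eval₂RingHom, Polynomial.eval₂_X, show ψ Polynomial.X = SymmetricAlgebra.ι _ _ l from Polynomial.aeval_X _,
      RelSpecLib.symEval_ι]
    exact gammaMap_coordAt P l

end Groth.Agent.LinBunLib
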