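import Groth.Agent.LinBunLib.Tot
import Groth.Agent.AmpleLib.GenLocus
import Groth.Prelude.Def_GLinSh

/-!
# The linearised line bundle pulled back along an invariant map
-/

set_option autoImplicit false
set_option backward.isDefEq.respectTransparency false
set_option backward.isDefEq.respectTransparency.types false
set_option linter.style.haveILetI false

universe u

open CategoryTheory CategoryTheory.Limits MonoidalCategory CartesianMonoidalCategory MonObj AlgebraicGeometry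
  Opposite TopologicalSpace Groth.Agent.ParaFLib

noncomputable section

namespace Groth.Agent.LinBunLib

theorem appLE_congr' {A B : Scheme.{u}} {f g : A ⟶ B} (h : f = g) {U : B.Opens} {V : A.Opens}
    (e : V ≤ f ⁻¹ᵁ U) (e' : V ≤ g ⁻¹ᵁ U) : f.appLE U V e = g.appLE U V e' := by
  subst h; rfl

theorem appLE_appLE {A B C : Scheme.{u}} (f : A ⟶ B) (g : B ⟶ C) {U : C.Opens} {V : B.Opens} {W : A.Opens}
    (e₁ : V ≤ g ⁻¹ᵁ U) (e₂ : W ≤ f ⁻¹ᵁ V) (z : Γ(C, U)) :
    f.appLE V W e₂ (g.appLE U V e₁ z) =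
      (f ≫ g).appLE U W (e₂.trans (f.preimage_mono e₁)) z :=
  congr($(Scheme.Hom.appLE_comp_appLE f g U V W e₁ e₂) z)

theorem res_appLE {A B : Scheme.{u}} (f : A ⟶ B) {U : B.Opens} {V V' : A.Opens} (e : V ≤ f ⁻¹ᵁ U) (h : V' ≤ V)
    (z : Γ(B, U)) : A.presheaf.map (homOfLE h).op (f.appLE U V e z) = f.appLE U V' (h.trans e) z :=
  congr($(Scheme.Hom.appLE_map f e (homOfLE h).op) z)

theorem appLE_res {A B : Scheme.{u}} (f : A ⟶ B) {U U' : B.Opens} {V : A.Opens} (h : U' ≤ U) (e : V ≤ f ⁻¹ᵁ U')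
    (z : Γ(B, U)) : f.appLE U' V e (B.presheaf.map (homOfLE h).op z) = f.appLE U V (e.trans (f.preimage_mono h)) z :=
  congr($(Scheme.Hom.map_appLE f e (homOfLE h).op) z)

variable {S : Scheme.{u}} {G X Y : Over S} (φ : X ⟶ Y) (P : Y.left.Modules) [Coh.IsQCoh P]

/-- The total space as a scheme over the base. -/
def totO : Over S := Over.mk (proj P ≫ Y.hom)

/-- Its projection. -/
def projO : totO P ⟶ Y := Over.homMk (proj P)

/-- The pullback of the total space. -/
def V : Over S := Over.mk (pullback.fst φ.left (proj P) ≫ X.hom)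

/-- The projection. -/
def π : V φ P ⟶ X := Over.homMk (pullback.fst φ.left (proj P))

/-- The comparison map. -/
def q : V φ P ⟶ totO P := Over.homMk (pullback.snd φ.left (proj P)) (by
  show pullback.snd φ.left (proj P) ≫ proj P ≫ Y.hom = pullback.fst φ.left (proj P) ≫ X.hom
  rw [← pullback.condition_assoc, Over.w φ])

/-- The comparison map of total spaces. -/
def qL : (V φ P).left ⟶ tot P := pullback.snd φ.left (proj P)

theorem cond : π φ P ≫ φ = q φ P ≫ projO P :=
  Over.OverMorphism.ext pullback.condition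

theorem cond_left : (π φ P).left ≫ φ.left = qL φ P ≫ proj P := pullback.condition

/-- Maps into the pullback. -/
def liftV {T : Over S} (f : T ⟶ X) (g : T ⟶ totO P) (h : f ≫ φ = g ≫ projO P) : T ⟶ V φ P :=
  Over.homMk (pullback.lift f.left g.left (congrArg CommaMorphism.left h)) (by
    show pullback.lift f.left g.left _ ≫ pullback.fst φ.left (proj P) ≫ X.hom = T.hom
    rw [pullback.lift_fst_assoc, Over.w f])

theorem liftV_π {T : Over S} (f : T ⟶ X) (g : T ⟶ totO P) (h : f ≫ φ = g ≫ projO P) :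
    liftV φ P f g h ≫ π φ P = f :=
  Over.OverMorphism.ext (pullback.lift_fst _ _ _)

theorem liftV_q {T : Over S} (f : T ⟶ X) (g : T ⟶ totO P) (h : f ≫ φ = g ≫ projO P) :
    liftV φ P f g h ≫ q φ P = g :=
  Over.OverMorphism.ext (pullback.lift_snd _ _ _)

theorem homV_ext {T : Over S} {f g : T ⟶ V φ P} (h₁ : f ≫ π φ P = g ≫ π φ P) (h₂ : f ≫ q φ P = g ≫ q φ P) :
    f = g :=
  Over.OverMorphism.ext (pullback.hom_ext (congrArg CommaMorphism.left h₁) (congrArg CommaMorphism.left h₂))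

variable [GrpObj G] (a : AlgGrp.Action G X) (hφ : GIT.IsInvariant a φ)

/-- The lifted action. -/
def act : G ⊗ V φ P ⟶ V φ P :=
  liftV φ P ((G ◁ π φ P) ≫ a.act) (snd G (V φ P) ≫ q φ P) (by
    rw [Category.assoc, show a.act ≫ φ = snd G X ≫ φ from hφ, whiskerLeft_snd_assoc, cond, Category.assoc])

theorem act_π : act φ P a hφ ≫ π φ P = (G ◁ π φ P) ≫ a.act := liftV_π φ P _ _ _

theorem act_q : act φ P a hφ ≫ q φ P = snd G (V φ P) ≫ q φ P := liftV_q φ P _ _ _

/-- The lifted action is an action. -/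
def liftAction : AlgGrp.Action G (V φ P) where
  act := act φ P a hφ
  one_act := by
    refine homV_ext φ P ?_ ?_
    · rw [Category.assoc, act_π, ← whisker_exchange_assoc, a.one_act, leftUnitor_naturality]
    · rw [Category.assoc, act_q, whiskerRight_snd_assoc]
      rfl
  mul_act := by
    refine homV_ext φ P ?_ ?_
    · simp only [Category.assoc]
      rw [act_π, ← whisker_exchange_assoc, a.mul_act, ← whiskerLeft_comp_assoc, act_π]
      simp
    · simp only [Category.assoc]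
      rw [act_q, whiskerRight_snd_assoc, whiskerLeft_snd_assoc, act_q]
      simp

/-- The fibre coordinate given by a section. -/
def pullCoord {A : Y.left.Opens} {W : X.left.Opens} (h : W ≤ φ.left ⁻¹ᵁ A) (l : Γ(P, A)) :
    Γ((V φ P).left, (π φ P).left ⁻¹ᵁ W) :=
  (qL φ P).appLE (proj P ⁻¹ᵁ A) ((π φ P).left ⁻¹ᵁ W) (by
    show (π φ P).left ⁻¹ᵁ W ≤ (qL φ P ≫ proj P) ⁻¹ᵁ A
    rw [← cond_left]
    exact (π φ P).left.preimage_mono h) (coordAt P l)

theorem res_pullCoord {A : Y.left.Opens} {W W' : X.left.Opens} (h : W ≤ φ.left ⁻¹ᵁ A) (h' : W' ≤ W) (l : Γ(P, A)) :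
    GLinSh.res (π φ P) h' (pullCoord φ P h l) = pullCoord φ P (h'.trans h) l :=
  res_appLE _ _ _ _

theorem pullCoord_res {A A' : Y.left.Opens} {W : X.left.Opens} (hA : A' ≤ A) (h : W ≤ φ.left ⁻¹ᵁ A') (l : Γ(P, A)) :
    pullCoord φ P h (P.presheaf.map (homOfLE hA).op l) = pullCoord φ P (h.trans (φ.left.preimage_mono hA)) l := by
  rw [pullCoord, coordAt_res]
  exact appLE_res _ _ _ _

theorem pullCoord_smul {A : Y.left.Opens} {W : X.left.Opens} (h : W ≤ φ.left ⁻¹ᵁ A) (r : Γ(Y.left, A)) (l : Γ(P, A)) :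
    pullCoord φ P h (r • l) = (π φ P).left.app W (φ.left.appLE A W h r) * pullCoord φ P h l := by
  rw [pullCoord, coordAt_smul, map_mul]
  congr 1
  rw [Scheme.Hom.app_eq_appLE, Scheme.Hom.app_eq_appLE, appLE_appLE, appLE_appLE]
  exact congr($(appLE_congr' (cond_left φ P).symm _ _) r)

/-- The admissible coordinates. -/
def chart (W : X.left.Opens) : Set (Γ((V φ P).left, (π φ P).left ⁻¹ᵁ W)) :=
  {y | ∃ (A : Y.left.Opens) (_ : IsAffineOpen A) (l : Γ(P, A)) (_ : Gen A l) (h : W ≤ φ.left ⁻¹ᵁ A),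
    y = pullCoord φ P h l}

/-- On affine opens the pulled back coordinate is a polynomial coordinate. -/
theorem bijective_eval₂_pullCoord [IsAffineHom (proj P)] {A : Y.left.Opens} (hA : IsAffineOpen A) {l : Γ(P, A)}
    (hl : Gen A l) {W : X.left.Opens} (hW : IsAffineOpen W) (h : W ≤ φ.left ⁻¹ᵁ A) :
    Function.Bijective (Polynomial.eval₂RingHom ((π φ P).left.app W).hom (pullCoord φ P h l)) := by
  have hUY : (π φ P).left ⁻¹ᵁ W = (π φ P).left ⁻¹ᵁ W ⊓ qL φ P ⁻¹ᵁ (proj P ⁻¹ᵁ A) := by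
    refine (inf_eq_left.2 ?_).symm
    show (π φ P).left ⁻¹ᵁ W ≤ (qL φ P ≫ proj P) ⁻¹ᵁ A
    rw [← cond_left]
    exact (π φ P).left.preimage_mono h
  have H : IsPullback (π φ P).left (qL φ P) φ.left (proj P) := IsPullback.of_hasPullback _ _
  have hpo := (isIso_pushoutSection_iff H (le_refl (proj P ⁻¹ᵁ A)) h hUY).1
    (isIso_pushoutSection_of_isAffineOpen H (le_refl (proj P ⁻¹ᵁ A)) h hUY hA (hA.preimage (proj P)) hW)
  have := bijective_eval₂_of_isPushout hpo (coordAt P l) (by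
    rw [← Scheme.Hom.app_eq_appLE]
    exact bijective_eval₂_coordAt P hA hl)
  rw [← Scheme.Hom.app_eq_appLE] at this
  exact this

/-- The linear atlas. -/
def atlas (hP : PicF.IsInvertible P) : GLinSh.LinAtlas (π φ P) where
  affine := MorphismProperty.pullback_fst (P := @IsAffineHom) _ _ inferInstance
  chart := chart φ P
  cover x := by
    obtain ⟨U, l, hxU, hl⟩ := ParaFLib.exists_gen_nhd hP (φ.left x)
    obtain ⟨A, hA, hxA, hle⟩ := exists_isAffineOpen_mem_and_subset hxU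
    exact ⟨φ.left ⁻¹ᵁ A, hxA, _, A, hA, _, hl.res hle, le_rfl, rfl⟩
  coord := by
    rintro U y ⟨A, hA, l, hl, h, rfl⟩ W hW hWU
    rw [res_pullCoord]
    exact bijective_eval₂_pullCoord φ P hA hl hW (hWU.trans h)
  linear := by
    rintro U U' y y' ⟨A, hA, l, hl, h, rfl⟩ ⟨A', hA', l', hl', h', rfl⟩
    obtain ⟨c, hc, hce⟩ := (hl'.res (inf_le_right : A ⊓ A' ≤ A')).exists_unit (hl.res (inf_le_left : A ⊓ A' ≤ A))
    have hle : U ⊓ U' ≤ φ.left ⁻¹ᵁ (A ⊓ A') := fun z hz => ⟨h hz.1, h' hz.2⟩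
    refine ⟨φ.left.appLE (A ⊓ A') (U ⊓ U') hle c, hc.map _, ?_⟩
    rw [res_pullCoord, res_pullCoord, ← pullCoord_res φ P (inf_le_right : A ⊓ A' ≤ A') hle l', ← hce,
      pullCoord_smul, pullCoord_res]

/-- The pulled back linearised line bundle. -/
def linBun (hP : PicF.IsInvertible P) : GLinSh.LinBun G a where
  V := V φ P
  π := π φ P
  atlas := atlas φ P hP
  lift := liftAction φ P a hφ
  lift_π := act_π φ P a hφ
  lift_linear := by
    rintro U U' y y' ⟨A, hA, l, hl, h, rfl⟩ ⟨A', hA', l', hl', h', rfl⟩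
    obtain ⟨c, -, hce⟩ := (hl'.res (inf_le_right : A ⊓ A' ≤ A')).exists_unit (hl.res (inf_le_left : A ⊓ A' ≤ A))
    let ψ := (snd G X).left ≫ φ.left
    have hψ : a.act.left ≫ φ.left = ψ := congrArg CommaMorphism.left hφ
    have hD : a.act.left ⁻¹ᵁ U' ⊓ (snd G X).left ⁻¹ᵁ U ≤ ψ ⁻¹ᵁ (A ⊓ A') := fun z hz => by
      refine ⟨h hz.2, ?_⟩
      show ψ z ∈ A'
      rw [← hψ]
      exact h' hz.1
    refine ⟨ψ.appLE (A ⊓ A') _ hD c, ?_⟩
    let L := GLinSh.liftOpen a (π φ P) U U'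
    let r : (G ⊗ V φ P).left ⟶ tot P := (snd G (V φ P)).left ≫ qL φ P
    have hr : (liftAction φ P a hφ).act.left ≫ qL φ P = r := congrArg CommaMorphism.left (act_q φ P a hφ)
    have hrp : r ≫ proj P = (G ◁ π φ P).left ≫ ψ := by
      have h1 : (snd G (V φ P) ≫ q φ P) ≫ projO P = (G ◁ π φ P) ≫ snd G X ≫ φ := by
        rw [Category.assoc, ← cond, whiskerLeft_snd_assoc]
      exact congrArg CommaMorphism.left h1
    have hL : L ≤ r ⁻¹ᵁ (proj P ⁻¹ᵁ (A ⊓ A')) := by
      show L ≤ (r ≫ proj P) ⁻¹ᵁ (A ⊓ A')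
      rw [hrp]
      exact (GLinSh.liftOpen_le_base a (π φ P)).trans ((G ◁ π φ P).left.preimage_mono hD)
    have hl₁ : ∀ (B : Y.left.Opens) (hB : A ⊓ A' ≤ B) (m : Γ(P, B)),
        r.appLE (proj P ⁻¹ᵁ B) L (hL.trans (r.preimage_mono ((proj P).preimage_mono hB))) (coordAt P m) =
          r.appLE (proj P ⁻¹ᵁ (A ⊓ A')) L hL (coordAt P (P.presheaf.map (homOfLE hB).op m)) := by
      intro B hB m
      rw [coordAt_res, appLE_res]
    simp only [pullCoord, appLE_appLE]
    refine Eq.trans ?_ (congrArg₂ (· * ·) rfl (hl₁ A inf_le_left l).symm)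
    refine (congr($(appLE_congr' hr _ _) (coordAt P l'))).trans ((hl₁ A' inf_le_right l').trans ?_)
    rw [← hce, coordAt_smul, map_mul]
    congr 1
    rw [Scheme.Hom.app_eq_appLE, appLE_appLE]
    exact congr($(appLE_congr' hrp _ _) c)

/-- The global function given by a global section. -/
def secFn (t : Γ(P, ⊤)) : Γ((V φ P).left, ⊤) :=
  (qL φ P).appLE (proj P ⁻¹ᵁ ⊤) ⊤ le_top (coordAt P t)

theorem resTop_secFn (t : Γ(P, ⊤)) {A : Y.left.Opens} {W : X.left.Opens} (h : W ≤ φ.left ⁻¹ᵁ A) :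
    GLinSh.resTop (π φ P) W (secFn φ P t) = pullCoord φ P h (P.presheaf.map (homOfLE le_top).op t) := by
  rw [pullCoord_res φ P (le_top : A ≤ ⊤) h t]
  exact res_appLE _ _ _ _

theorem hasWeight_secFn (t : Γ(P, ⊤)) : GLinSh.HasWeight (π := π φ P) (chart φ P) 1 (secFn φ P t) := by
  rintro U y ⟨A, hA, l, hl, h, rfl⟩
  obtain ⟨c, hc⟩ := (hl A le_rfl).2 (P.presheaf.map (homOfLE (le_top : A ≤ ⊤)).op t)
  refine ⟨φ.left.appLE A U h c, ?_⟩
  rw [resTop_secFn φ P t h, pow_one, ← hc,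
    show P.presheaf.map (homOfLE (le_refl A)).op l = l from ConcreteCategory.congr_hom (P.presheaf.map_id _) l]
  exact pullCoord_smul φ P h c l

theorem isInvSection_secFn (hP : PicF.IsInvertible P) (t : Γ(P, ⊤)) :
    (linBun φ P a hφ hP).IsInvSection 1 (secFn φ P t) := by
  refine ⟨hasWeight_secFn φ P t, ?_⟩
  · show (liftAction φ P a hφ).act.left.appTop (secFn φ P t) = (snd G (V φ P)).left.appTop (secFn φ P t)
    simp only [secFn, Scheme.Hom.appTop, Scheme.Hom.app_eq_appLE]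
    refine (appLE_appLE _ _ _ _ _).trans (Eq.trans ?_ (appLE_appLE _ _ _ _ _).symm)
    exact congr($(appLE_congr' (congrArg CommaMorphism.left (act_q φ P a hφ)) _ _) (coordAt P t))

/-- The non-vanishing locus of the function of a section is the preimage of its generating locus. -/
theorem nonvanishing_secFn (hP : PicF.IsInvertible P) (t : Γ(P, ⊤)) :
    GLinSh.nonvanishing (π φ P) (secFn φ P t) =
      ((φ.left ⁻¹ᵁ CohB1.genLocus P (DCohLib.secHom P t) : X.left.Opens) : Set X.left) := by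
  ext x
  obtain ⟨U, l₀, hxU, hl₀⟩ := ParaFLib.exists_gen_nhd hP (φ.left x)
  obtain ⟨A, hA, hxA, hle⟩ := exists_isAffineOpen_mem_and_subset hxU
  have hl := hl₀.res (show A ≤ U from hle)
  set l := P.presheaf.map (homOfLE (show A ≤ U from hle)).op l₀
  obtain ⟨W, hW, hxW, hWle⟩ := exists_isAffineOpen_mem_and_subset (show x ∈ φ.left ⁻¹ᵁ A from hxA)
  have hWA : W ≤ φ.left ⁻¹ᵁ A := hWle
  obtain ⟨r, hr⟩ := (hl A le_rfl).2 (P.presheaf.map (homOfLE (le_top : A ≤ ⊤)).op t)
  rw [show P.presheaf.map (homOfLE (le_refl A)).op l = l from ConcreteCategory.congr_hom (P.presheaf.map_id _) l] at hr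
  let c := φ.left.appLE A W hWA r
  have hr' : r • l = AmpleLib.resT (AmpleLib.sec (DCohLib.secHom P t)) (O := A) := by
    rw [AmpleLib.resT, AmpleLib.sec_secHom]; exact hr
  have hmem : x ∈ φ.left ⁻¹ᵁ CohB1.genLocus P (DCohLib.secHom P t) ↔ x ∈ X.left.basicOpen c := by
    rw [Scheme.basicOpen_appLE]
    have h1 := AmpleLib.genLocus_inf_eq_basicOpen (DCohLib.secHom P t) hl hr'
    constructor
    · intro hx
      exact ⟨hxW, (h1.le ⟨hx, hxA⟩ : φ.left x ∈ Y.left.basicOpen r)⟩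
    · intro hx
      exact (h1.ge hx.2).1
  let f := secFn φ P t
  have hf : GLinSh.resTop (π φ P) W f = (π φ P).left.app W c * pullCoord φ P hWA l := by
    rw [resTop_secFn φ P t hWA, ← hr]
    exact pullCoord_smul φ P hWA r l
  have hbo : ∀ v : (V φ P).left, (π φ P).left v ∈ W →
      (v ∈ (V φ P).left.basicOpen f ↔ v ∈ (V φ P).left.basicOpen ((π φ P).left.app W c * pullCoord φ P hWA l)) := by
    intro v hv
    rw [← hf, GLinSh.resTop, Scheme.basicOpen_res]
    exact ⟨fun h => ⟨hv, h⟩, fun h => h.2⟩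
  rw [SetLike.mem_coe, hmem]
  constructor
  · rintro ⟨v, hv, rfl⟩
    have hv' := (hbo v hxW).1 hv
    rw [Scheme.basicOpen_mul] at hv'
    have hv1 := hv'.1
    rw [← Scheme.preimage_basicOpen] at hv1
    exact hv1
  · intro hx
    let e := RingEquiv.ofBijective _ (bijective_eval₂_pullCoord φ P hA hl hW hWA)
    let θ : Γ((V φ P).left, (π φ P).left ⁻¹ᵁ W) →+* Γ(X.left, W) :=
      (Polynomial.evalRingHom 1).comp e.symm.toRingHom
    haveI : IsAffineHom (π φ P).left := MorphismProperty.pullback_fst (P := @IsAffineHom) _ _ inferInstance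
    have hV : IsAffineOpen ((π φ P).left ⁻¹ᵁ W) := hW.preimage _
    let p := hW.primeIdealOf ⟨x, hxW⟩
    let v := hV.fromSpec (PrimeSpectrum.comap θ p)
    have hθy : θ (pullCoord φ P hWA l) = 1 := by
      rw [show pullCoord φ P hWA l = e Polynomial.X by simp [e]]
      simp [θ]
    have hθc : ∀ z, θ ((π φ P).left.app W z) = z := fun z => by
      rw [show (π φ P).left.app W z = e (Polynomial.C z) by simp [e]]
      simp [θ]
    have hvx : (π φ P).left v = x := by
      have h1 := congr($(hW.SpecMap_appLE_fromSpec (π φ P).left hV le_rfl) (PrimeSpectrum.comap θ p))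
      rw [Scheme.Hom.comp_apply, Scheme.Hom.comp_apply] at h1
      refine h1.symm.trans ?_
      refine Eq.trans (congrArg hW.fromSpec ?_) (hW.fromSpec_primeIdealOf ⟨x, hxW⟩)
      refine PrimeSpectrum.ext (Ideal.ext fun z => ?_)
      show θ ((π φ P).left.appLE W _ le_rfl z) ∈ p.asIdeal ↔ z ∈ p.asIdeal
      rw [← Scheme.Hom.app_eq_appLE, hθc]
    refine ⟨v, (hbo v (hvx.symm ▸ hxW)).2 ?_, hvx⟩
    have hx' : p ∈ hW.fromSpec ⁻¹ᵁ X.left.basicOpen c := by
      show hW.fromSpec p ∈ X.left.basicOpen c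
      rw [hW.fromSpec_primeIdealOf]
      exact hx
    rw [hW.fromSpec_preimage_basicOpen] at hx'
    let z := (π φ P).left.app W c * pullCoord φ P hWA l
    have h2 : PrimeSpectrum.comap θ p ∈ PrimeSpectrum.basicOpen z := by
      show θ z ∉ p.asIdeal
      rw [map_mul, hθc, hθy, _root_.mul_one]
      exact hx'
    rw [← hV.fromSpec_preimage_basicOpen] at h2
    exact h2

end Groth.Agent.LinBunLib
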